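import Groth.Agent.S2ExtLib.Finite
import Groth.Agent.S5152
import Groth.Agent.DepthLib.SkStalk
import Groth.Prelude.Def_FEt

/-! The relative normalization of a scheme in a finite étale cover of an open with depth two complement. -/

set_option autoImplicit false
universe u

open CategoryTheory AlgebraicGeometry Opposite TopologicalSpace RingTheory.Sequence CategoryTheory.Limits

namespace S2ExtLib

/-- Grade two from depth two at all primes containing the ideal. -/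
theorem exists_regular_pair {R : Type u} [CommRing R] [IsNoetherianRing R] (J : Ideal R)
    (h : ∀ (p : PrimeSpectrum R), J ≤ p.asIdeal → (2 : ℕ∞) ≤
      LocCoh.depth (Localization.AtPrime p.asIdeal) (Localization.AtPrime p.asIdeal)) :
    ∃ a b, a ∈ J ∧ b ∈ J ∧ IsWeaklyRegular R [a, b] := by
  have h2 : ((2 : ℕ) : ℕ∞) ≤ LocCoh.idealDepth J R := by
    rw [Groth.Agent.S5152.result R J R]
    refine le_iInf₂ fun p hp => ?_
    let ε : LocalizedModule p.asIdeal.primeCompl R ≃ₗ[Localization.AtPrime p.asIdeal] Localization.AtPrime p.asIdeal :=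
      (IsLocalizedModule.iso p.asIdeal.primeCompl
        (Algebra.linearMap R (Localization.AtPrime p.asIdeal))).extendScalarsOfIsLocalization
        p.asIdeal.primeCompl (Localization.AtPrime p.asIdeal)
    rw [CommAlgDim.depth_congr ε]
    exact h p hp
  obtain ⟨rs, hl, hm, hr⟩ := (CommAlgDim.le_idealDepth_iff J 2).1 h2
  match rs, hl with
  | [a, b], _ => exact ⟨a, b, hm a (by simp), hm b (by simp), hr⟩

variable {X V : Scheme.{u}} [IsLocallyNoetherian X]

/-- The setting: `π : V ⟶ X` factors as a finite flat map to an open `U`. -/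
structure Setup (π : V ⟶ X) (U : X.Opens) : Prop where
  depth : ∀ x : X, x ∉ U → (2 : ℕ∞) ≤ LocCoh.depth (X.presheaf.stalk x) (X.presheaf.stalk x)
  exists_hom : ∃ g : V ⟶ (U : Scheme.{u}), g ≫ U.ι = π ∧ IsFinite g ∧ Flat g

namespace Setup

variable {π : V ⟶ X} {U : X.Opens} (S : Setup π U)
include S

theorem flat : Flat π := by
  obtain ⟨g, rfl, -, hg⟩ := S.exists_hom
  infer_instance

theorem quasiCompact : QuasiCompact π := by
  obtain ⟨g, rfl, hg, -⟩ := S.exists_hom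
  infer_instance

theorem quasiSeparated : QuasiSeparated π := by
  obtain ⟨g, rfl, hg, -⟩ := S.exists_hom
  infer_instance

theorem preimage_eq : π ⁻¹ᵁ U = ⊤ := by
  obtain ⟨g, rfl, -, -⟩ := S.exists_hom
  refine top_le_iff.1 fun v _ => ?_
  exact (g v).2

theorem chart {W : X.Opens} (hW : IsAffineOpen W) (hWU : W ≤ U) :
    IsAffineOpen (π ⁻¹ᵁ W) ∧ (π.app W).hom.Finite ∧ (π.app W).hom.Flat := by
  obtain ⟨g, rfl, hg, hgf⟩ := S.exists_hom
  have hW' : IsAffineOpen (U.ι ⁻¹ᵁ W) := hW.preimage_of_isOpenImmersion U.ι (by simpa using hWU)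
  haveI : IsIso (U.ι.app W) := U.ι.isIso_app W (by simpa using hWU)
  refine ⟨hW'.preimage g, ?_, ?_⟩
  · rw [Scheme.Hom.comp_app]
    exact (IsFinite.finite_app g _ hW').comp
      (RingHom.Finite.of_surjective _ (ConcreteCategory.bijective_of_isIso (U.ι.app W)).2)
  · rw [Scheme.Hom.comp_app]
    have h := g.flat_appLE hW' (hW'.preimage g) le_rfl
    rw [← Scheme.Hom.app_eq_appLE] at h
    exact (RingHom.Flat.of_bijective (ConcreteCategory.bijective_of_isIso (U.ι.app W))).comp h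

variable {W : X.Opens} (hW : IsAffineOpen W)
include hW

theorem exists_cover : ∃ (n : ℕ) (f : Fin n → Γ(X, W)), (∀ i, X.basicOpen (f i) ≤ U) ∧
    (W ⊓ U ≤ ⨆ i, X.basicOpen (f i)) ∧ ∀ N : ℕ, ∃ a b, a ∈ Ideal.span (Set.range fun i => f i ^ N) ∧
      b ∈ Ideal.span (Set.range fun i => f i ^ N) ∧ IsWeaklyRegular Γ(X, W) [a, b] := by
  classical
  haveI : IsNoetherianRing Γ(X, W) := IsLocallyNoetherian.component_noetherian ⟨W, hW⟩
  let I : Ideal Γ(X, W) := Ideal.span {f | X.basicOpen f ≤ U}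
  obtain ⟨s, hs, hspan⟩ := (Submodule.fg_span_iff_fg_span_finset_subset _).1 (IsNoetherian.noetherian I)
  let f : Fin s.card → Γ(X, W) := fun i => (s.equivFin.symm i).1
  have hf : ∀ g ∈ s, ∃ i, f i = g := fun g hg => ⟨s.equivFin ⟨g, hg⟩, by simp [f]⟩
  have hcov : W ⊓ U ≤ ⨆ i, X.basicOpen (f i) := by
    rintro x ⟨hxW, hxU⟩
    obtain ⟨g, hg, hxg⟩ := hW.exists_basicOpen_le (V := U) ⟨x, hxU⟩ hxW
    have key : ∀ a : Γ(X, W), x ∈ X.basicOpen a ↔ a ∉ (hW.primeIdealOf ⟨x, hxW⟩).asIdeal := fun a => by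
      have h : hW.primeIdealOf ⟨x, hxW⟩ ∈ hW.fromSpec ⁻¹ᵁ X.basicOpen a ↔ x ∈ X.basicOpen a := by
        show hW.fromSpec _ ∈ X.basicOpen a ↔ _
        rw [hW.fromSpec_primeIdealOf]
      rw [← h, hW.fromSpec_preimage_basicOpen]
      rfl
    by_contra hc
    refine (key g).1 hxg ?_
    have hgI : g ∈ I := Ideal.subset_span hg
    rw [show I = Submodule.span Γ(X, W) (s : Set Γ(X, W)) from hspan] at hgI
    refine (Ideal.span_le.2 fun a ha => ?_) hgI
    by_contra hna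
    obtain ⟨i, rfl⟩ := hf a ha
    exact hc (Opens.mem_iSup.2 ⟨i, (key _).2 hna⟩)
  refine ⟨s.card, f, fun i => hs (s.equivFin.symm i).2, hcov, fun N => exists_regular_pair _ fun p hp => ?_⟩
  have hpW : hW.fromSpec p ∈ W := hW.range_fromSpec.le ⟨p, rfl⟩
  have hpU : hW.fromSpec p ∉ U := fun hpU => by
    obtain ⟨i, hi⟩ := Opens.mem_iSup.1 (hcov ⟨hpW, hpU⟩)
    have : p ∈ hW.fromSpec ⁻¹ᵁ X.basicOpen (f i) := hi
    rw [hW.fromSpec_preimage_basicOpen] at this
    exact this (p.2.mem_of_pow_mem N (hp (Ideal.subset_span ⟨i, rfl⟩)))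
  letI := X.presheaf.algebra_section_stalk ⟨hW.fromSpec p, hpW⟩
  haveI : IsLocalization.AtPrime (X.presheaf.stalk (hW.fromSpec p)) p.asIdeal := hW.isLocalization_stalk' p hpW
  rw [DepthLib.depth_congr_ringEquiv (IsLocalization.algEquiv p.asIdeal.primeCompl
    (Localization.AtPrime p.asIdeal) (X.presheaf.stalk (hW.fromSpec p))).toRingEquiv]
  exact S.depth _ hpU

theorem sep_pieces {n : ℕ} {f : Fin n → Γ(X, W)} (hcov : W ⊓ U ≤ ⨆ i, X.basicOpen (f i)) :
    π ⁻¹ᵁ W ≤ ⨆ i, V.basicOpen (π.app W (f i)) := by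
  intro v hv
  obtain ⟨i, hi⟩ := Opens.mem_iSup.1 (hcov ⟨hv, (S.preimage_eq.ge trivial : v ∈ π ⁻¹ᵁ U)⟩)
  exact Opens.mem_iSup.2 ⟨i, by rw [← π.preimage_basicOpen]; exact hi⟩

theorem app_finite : (π.app W).hom.Finite := by
  haveI : IsNoetherianRing Γ(X, W) := IsLocallyNoetherian.component_noetherian ⟨W, hW⟩
  haveI := S.quasiCompact
  haveI := S.quasiSeparated
  obtain ⟨n, f, hfU, hcov, hgr⟩ := S.exists_cover hW
  letI : Algebra Γ(X, W) Γ(V, π ⁻¹ᵁ W) := (π.app W).hom.toAlgebra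
  letI : ∀ i, Algebra Γ(X, W) Γ(X, X.basicOpen (f i)) := fun i =>
    (X.presheaf.map (homOfLE (X.basicOpen_le (f i))).op).hom.toAlgebra
  letI : ∀ i, Algebra Γ(X, X.basicOpen (f i)) Γ(V, π ⁻¹ᵁ X.basicOpen (f i)) := fun i =>
    (π.app (X.basicOpen (f i))).hom.toAlgebra
  letI : ∀ i, Algebra Γ(X, W) Γ(V, π ⁻¹ᵁ X.basicOpen (f i)) := fun i =>
    (π.appLE W (π ⁻¹ᵁ X.basicOpen (f i)) (π.preimage_mono (X.basicOpen_le (f i)))).hom.toAlgebra
  letI : ∀ i, Algebra Γ(V, π ⁻¹ᵁ W) Γ(V, π ⁻¹ᵁ X.basicOpen (f i)) := fun i =>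
    (V.presheaf.map (homOfLE (π.preimage_mono (X.basicOpen_le (f i)))).op).hom.toAlgebra
  haveI : ∀ i, IsScalarTower Γ(X, W) Γ(V, π ⁻¹ᵁ W) Γ(V, π ⁻¹ᵁ X.basicOpen (f i)) := fun i =>
    IsScalarTower.of_algebraMap_eq fun r => rfl
  haveI : ∀ i, IsScalarTower Γ(X, W) Γ(X, X.basicOpen (f i)) Γ(V, π ⁻¹ᵁ X.basicOpen (f i)) := fun i =>
    IsScalarTower.of_algebraMap_eq' (by
      show (π.appLE W _ _).hom = (π.app _).hom.comp (X.presheaf.map _).hom
      rw [← CommRingCat.hom_comp, Scheme.Hom.app_eq_appLE, π.map_appLE])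
  haveI : ∀ i, IsLocalization.Away (f i) Γ(X, X.basicOpen (f i)) := fun i => hW.isLocalization_basicOpen (f i)
  haveI : ∀ i, IsLocalizedModule (Submonoid.powers (f i))
      (IsScalarTower.toAlgHom Γ(X, W) Γ(V, π ⁻¹ᵁ W) Γ(V, π ⁻¹ᵁ X.basicOpen (f i))).toLinearMap := fun i => by
    rw [isLocalizedModule_iff_isLocalization, Algebra.algebraMapSubmonoid_powers]
    have key : ∀ (O : V.Opens) (hle : O ≤ π ⁻¹ᵁ W), O = V.basicOpen (π.app W (f i)) →
        @IsLocalization.Away _ _ (π.app W (f i)) Γ(V, O) _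
          (V.presheaf.map (homOfLE hle).op).hom.toAlgebra := by
      rintro O hle rfl
      exact isLocalization_basicOpen_of_qcqs (π.isCompact_preimage hW.isCompact)
        (π.isQuasiSeparated_preimage hW.isQuasiSeparated) _
    exact key _ (π.preimage_mono (X.basicOpen_le (f i))) (π.preimage_basicOpen (f i))
  haveI : ∀ i, Module.Finite Γ(X, X.basicOpen (f i)) Γ(V, π ⁻¹ᵁ X.basicOpen (f i)) := fun i =>
    (S.chart (hW.basicOpen (f i)) (hfU i)).2.1
  haveI : ∀ i, Module.Projective Γ(X, X.basicOpen (f i)) Γ(V, π ⁻¹ᵁ X.basicOpen (f i)) := fun i => by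
    haveI : IsNoetherianRing Γ(X, X.basicOpen (f i)) :=
      IsLocallyNoetherian.component_noetherian ⟨_, hW.basicOpen (f i)⟩
    haveI : Module.Flat Γ(X, X.basicOpen (f i)) Γ(V, π ⁻¹ᵁ X.basicOpen (f i)) :=
      (S.chart (hW.basicOpen (f i)) (hfU i)).2.2
    haveI : Module.FinitePresentation Γ(X, X.basicOpen (f i)) Γ(V, π ⁻¹ᵁ X.basicOpen (f i)) :=
      Module.finitePresentation_of_finite _ _
    exact Module.Flat.projective_of_finitePresentation
  refine module_finite f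
    (fun i => (IsScalarTower.toAlgHom Γ(X, W) Γ(V, π ⁻¹ᵁ W) Γ(V, π ⁻¹ᵁ X.basicOpen (f i))).toLinearMap)
    (fun i => Γ(X, X.basicOpen (f i))) (fun z hz => ?_) hgr
  refine TopCat.Sheaf.eq_of_locally_eq' V.sheaf (fun i => π ⁻¹ᵁ X.basicOpen (f i)) (π ⁻¹ᵁ W)
    (fun i => homOfLE (π.preimage_mono (X.basicOpen_le (f i)))) ?_ z 0 fun i => ?_
  · refine (S.sep_pieces hW hcov).trans (iSup_mono fun i => ?_)
    rw [π.preimage_basicOpen]
  · exact (hz i).trans (map_zero _).symm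

theorem appLE_flat {O : V.Opens} (hO : IsAffineOpen O) (hle : O ≤ π ⁻¹ᵁ W) : (π.appLE W O hle).hom.Flat := by
  haveI := S.flat
  exact π.flat_appLE hW hO hle

theorem regular {a b : Γ(X, W)} (h : IsWeaklyRegular Γ(X, W) [a, b]) :
    IsWeaklyRegular Γ(V, π ⁻¹ᵁ W) [π.app W a, π.app W b] := by
  have hloc : ∀ (O : V.Opens), IsAffineOpen O → ∀ hle : O ≤ π ⁻¹ᵁ W,
      IsWeaklyRegular Γ(V, O) [π.appLE W O hle a, π.appLE W O hle b] := fun O hO hle => by
    letI := (π.appLE W O hle).hom.toAlgebra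
    haveI : Module.Flat Γ(X, W) Γ(V, O) := S.appLE_flat hW hO hle
    exact IsWeaklyRegular.of_flat (S := Γ(V, O)) h
  have hres : ∀ (O O' : V.Opens) (i : O' ⟶ O) (hle : O ≤ π ⁻¹ᵁ W) (r : Γ(X, W)),
      V.presheaf.map i.op (π.appLE W O hle r) = π.appLE W O' (i.le.trans hle) r := fun O O' i hle r => by
    rw [← CommRingCat.comp_apply, π.appLE_map]
  -- `a` is injective on every open
  have hinj : ∀ (O : V.Opens) (hle : O ≤ π ⁻¹ᵁ W) (x : Γ(V, O)), π.appLE W O hle a * x = 0 → x = 0 := by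
    intro O hle x hx
    choose B hB hxB hBle using fun v : O => Opens.isBasis_iff_nbhd.1 V.isBasis_affineOpens (U := O) v.2
    refine TopCat.Sheaf.eq_of_locally_eq' V.sheaf B O (fun v => homOfLE (hBle v))
      (fun v hv => Opens.mem_iSup.2 ⟨⟨v, hv⟩, hxB ⟨v, hv⟩⟩) x 0 fun v => ?_
    have h1 := (reg_pair (hloc (B v) (hB v) ((hBle v).trans hle))).1 (V.presheaf.map (homOfLE (hBle v)).op x) (by
      show π.appLE W (B v) ((hBle v).trans hle) a * _ = 0
      rw [← hres O (B v) (homOfLE (hBle v)) hle a, ← map_mul, hx, map_zero])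
    exact h1.trans (map_zero _).symm
  have happ : ∀ r, π.app W r = π.appLE W (π ⁻¹ᵁ W) le_rfl r := fun r => by rw [Scheme.Hom.app_eq_appLE]
  rw [happ, happ, isWeaklyRegular_cons_iff, isWeaklyRegular_cons_iff]
  refine ⟨(injective_iff_map_eq_zero (DistribMulAction.toAddMonoidHom _ _)).2 fun x hx => hinj _ le_rfl x hx,
    (injective_iff_map_eq_zero (DistribMulAction.toAddMonoidHom _ _)).2 fun q hq => ?_, IsWeaklyRegular.nil _ _⟩
  obtain ⟨x, rfl⟩ := Submodule.Quotient.mk_surjective _ q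
  rw [DistribMulAction.toAddMonoidHom_apply, ← Submodule.Quotient.mk_smul, Submodule.Quotient.mk_eq_zero] at hq
  obtain ⟨y, -, hy⟩ := (Submodule.mem_smul_pointwise_iff_exists _ _ _).1 hq
  rw [Submodule.Quotient.mk_eq_zero]
  choose B hB hxB hBle using fun v : (π ⁻¹ᵁ W : V.Opens) =>
    Opens.isBasis_iff_nbhd.1 V.isBasis_affineOpens (U := π ⁻¹ᵁ W) v.2
  have hz : ∀ v, ∃ z : Γ(V, B v), V.presheaf.map (homOfLE (hBle v)).op x = π.appLE W (B v) (hBle v) a * z := by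
    intro v
    refine (reg_pair (hloc (B v) (hB v) (hBle v))).2 _ (V.presheaf.map (homOfLE (hBle v)).op y) ?_
    show π.appLE W (B v) _ b * _ = π.appLE W (B v) _ a * _
    rw [← hres _ (B v) (homOfLE (hBle v)) le_rfl a, ← hres _ (B v) (homOfLE (hBle v)) le_rfl b, ← map_mul, ← map_mul]
    exact congrArg _ hy.symm
  choose z hz using hz
  have hcompat : TopCat.Presheaf.IsCompatible V.sheaf.obj B z := fun v w => by
    refine sub_eq_zero.1 (hinj (B v ⊓ B w) (inf_le_left.trans (hBle v)) _ ?_)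
    show π.appLE W (B v ⊓ B w) _ a * (V.presheaf.map (Opens.infLELeft (B v) (B w)).op (z v) -
      V.presheaf.map (Opens.infLERight (B v) (B w)).op (z w) : Γ(V, B v ⊓ B w)) = 0
    rw [mul_sub, sub_eq_zero]
    have e1 := congrArg (V.presheaf.map (Opens.infLELeft (B v) (B w)).op) (hz v)
    have e2 := congrArg (V.presheaf.map (Opens.infLERight (B v) (B w)).op) (hz w)
    rw [map_mul, hres, ← CommRingCat.comp_apply, ← Functor.map_comp] at e1 e2
    exact e1.symm.trans e2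
  obtain ⟨Z, hZ, -⟩ := V.sheaf.existsUnique_gluing' B (π ⁻¹ᵁ W) (fun v => homOfLE (hBle v))
    (fun v hv => Opens.mem_iSup.2 ⟨⟨v, hv⟩, hxB ⟨v, hv⟩⟩) z hcompat
  let Z' : Γ(V, π ⁻¹ᵁ W) := Z
  refine (Submodule.mem_smul_pointwise_iff_exists _ _ _).2 ⟨Z', trivial, ?_⟩
  refine TopCat.Sheaf.eq_of_locally_eq' V.sheaf B (π ⁻¹ᵁ W) (fun v => homOfLE (hBle v))
    (fun v hv => Opens.mem_iSup.2 ⟨⟨v, hv⟩, hxB ⟨v, hv⟩⟩) _ _ fun v => ?_
  show V.presheaf.map (homOfLE (hBle v)).op ((π.appLE W (π ⁻¹ᵁ W) le_rfl a : Γ(V, π ⁻¹ᵁ W)) * Z') =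
    V.presheaf.map (homOfLE (hBle v)).op x
  rw [map_mul, hres, hz v]
  exact congrArg _ (hZ v)

end Setup

end S2ExtLib
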