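import Mathlib

/-! Hartogs extension along a finite family of elements generating an ideal of grade two, and the
finiteness of a module which is finite projective away from it. -/

set_option autoImplicit false
universe u

open RingTheory.Sequence Pointwise

namespace S2ExtLib

variable {R : Type u} [CommRing R] {κ : Type} [Fintype κ]

theorem reg_pair {M : Type u} [AddCommGroup M] [Module R M] {a b : R} (h : IsWeaklyRegular M [a, b]) :
    (∀ x : M, a • x = 0 → x = 0) ∧ ∀ x y : M, b • x = a • y → ∃ z : M, x = a • z := by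
  rw [isWeaklyRegular_cons_iff, isWeaklyRegular_cons_iff] at h
  obtain ⟨ha, hb, -⟩ := h
  refine ⟨fun x hx => ha (by simpa using hx), fun x y hxy => ?_⟩
  have : (Submodule.Quotient.mk x : QuotSMulTop a M) = 0 := by
    refine hb ?_
    show b • _ = b • _
    rw [smul_zero, ← Submodule.Quotient.mk_smul, hxy, Submodule.Quotient.mk_eq_zero]
    exact Submodule.smul_mem_pointwise_smul _ _ _ trivial
  obtain ⟨z, -, hz⟩ := (Submodule.mem_smul_pointwise_iff_exists _ _ _).1 ((Submodule.Quotient.mk_eq_zero _).1 this)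
  exact ⟨z, hz.symm⟩

theorem eq_zero_of_mul {g : κ → R} {a : R} (ha : a ∈ Ideal.span (Set.range g)) (hreg : ∀ x : R, a * x = 0 → x = 0)
    (x : R) (hx : ∀ i, g i * x = 0) : x = 0 := by
  refine hreg x ?_
  obtain ⟨c, rfl⟩ := Ideal.mem_span_range_iff_exists_fun.1 ha
  rw [Finset.sum_mul]
  exact Finset.sum_eq_zero fun i _ => by rw [mul_assoc, hx, mul_zero]

/-- Hartogs extension. -/
theorem glue_ring {g : κ → R} {a b : R} (ha : a ∈ Ideal.span (Set.range g)) (hb : b ∈ Ideal.span (Set.range g))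
    (h : IsWeaklyRegular R [a, b]) (w : κ → R) (hw : ∀ i j, g j * w i = g i * w j) :
    ∃ r : R, ∀ i, g i * r = w i := by
  obtain ⟨h1, h2⟩ := reg_pair h
  simp only [smul_eq_mul] at h1 h2
  have hz := eq_zero_of_mul ha h1
  obtain ⟨c, hc⟩ := Ideal.mem_span_range_iff_exists_fun.1 ha
  obtain ⟨d, hd⟩ := Ideal.mem_span_range_iff_exists_fun.1 hb
  have key : ∀ (e : R) (t : κ → R), ∑ i, t i * g i = e → ∀ j, g j * (∑ i, t i * w i) = e * w j := by
    rintro e t rfl j
    rw [Finset.mul_sum, Finset.sum_mul]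
    exact Finset.sum_congr rfl fun i _ => by rw [mul_left_comm, hw i j, ← mul_assoc]
  have hst : b * (∑ i, c i * w i) = a * (∑ i, d i * w i) := by
    refine sub_eq_zero.1 (hz _ fun j => ?_)
    rw [mul_sub, mul_left_comm, key a c hc, mul_left_comm (g j), key b d hd]
    ring
  obtain ⟨r, hr⟩ := h2 _ _ hst
  refine ⟨r, fun j => sub_eq_zero.1 (h1 _ ?_)⟩
  rw [mul_sub, ← key a c hc, hr]
  ring

variable [IsNoetherianRing R] (f : κ → R) {M : Type u} [AddCommGroup M] [Module R M]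
  {A : κ → Type u} [∀ i, AddCommGroup (A i)] [∀ i, Module R (A i)] (ψ : ∀ i, M →ₗ[R] A i)
  [∀ i, IsLocalizedModule (Submonoid.powers (f i)) (ψ i)]
  (Rᵢ : κ → Type u) [∀ i, CommRing (Rᵢ i)] [∀ i, Algebra R (Rᵢ i)]
  [∀ i, IsLocalization (Submonoid.powers (f i)) (Rᵢ i)]
  [∀ i, Module (Rᵢ i) (A i)] [∀ i, IsScalarTower R (Rᵢ i) (A i)]
  [∀ i, Module.Finite (Rᵢ i) (A i)] [∀ i, Module.Projective (Rᵢ i) (A i)]

include Rᵢ ψ in
omit [∀ i, Module.Projective (Rᵢ i) (A i)] in
theorem exists_fg_saturated : ∃ M₀ : Submodule R M, M₀.FG ∧ ∀ x : M, ∃ N : ℕ, ∀ i, f i ^ N • x ∈ M₀ := by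
  classical
  choose s hs using fun i => (Module.Finite.fg_top : (⊤ : Submodule (Rᵢ i) (A i)).FG)
  choose m n using fun i (y : A i) => IsLocalizedModule.surj (Submonoid.powers (f i)) (ψ i) y
  let T : Set M := ⋃ i, (fun y => (m i y).1) '' (s i : Set (A i))
  have hT : T.Finite := Set.finite_iUnion fun i => (s i).finite_toSet.image _
  refine ⟨Submodule.span R T, Submodule.fg_span hT, fun x => ?_⟩
  have key : ∀ i, ∃ n : ℕ, f i ^ n • x ∈ Submodule.span R T := by
    intro i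
    have h : ∀ y : A i, y ∈ Submodule.span (Rᵢ i) (s i : Set (A i)) →
        ∃ n : ℕ, ∃ z ∈ Submodule.span R T, f i ^ n • y = ψ i z := by
      intro y hy
      induction hy using Submodule.span_induction with
      | mem y hy =>
        obtain ⟨k, hk⟩ := (m i y).2.2
        refine ⟨k, (m i y).1, Submodule.subset_span (Set.mem_iUnion.2 ⟨i, ⟨y, hy, rfl⟩⟩), ?_⟩
        have := n i y
        rw [← this, Submonoid.smul_def]
        exact congrArg (· • y) hk
      | zero => exact ⟨0, 0, Submodule.zero_mem _, by simp⟩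
      | add y y' _ _ h h' =>
        obtain ⟨p, z, hz, hpz⟩ := h
        obtain ⟨p', z', hz', hpz'⟩ := h'
        refine ⟨p + p', f i ^ p' • z + f i ^ p • z', Submodule.add_mem _ (Submodule.smul_mem _ _ hz)
          (Submodule.smul_mem _ _ hz'), ?_⟩
        rw [map_add, map_smul, map_smul, ← hpz, ← hpz', smul_smul, smul_smul, ← pow_add, ← pow_add, smul_add,
          add_comm p' p]
      | smul c y _ h =>
        obtain ⟨p, z, hz, hpz⟩ := h
        obtain ⟨⟨r, ⟨_, k, rfl⟩⟩, hrk⟩ := IsLocalization.surj (Submonoid.powers (f i)) c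
        refine ⟨p + k, r • z, Submodule.smul_mem _ _ hz, ?_⟩
        have : (f i ^ k : R) • c = algebraMap R (Rᵢ i) r := by
          rw [Algebra.smul_def, mul_comm]
          exact hrk
        rw [map_smul, ← hpz, pow_add, mul_comm, mul_smul, smul_comm (f i ^ p) c y, ← smul_assoc, this,
          algebraMap_smul]
    obtain ⟨p, z, hz, hpz⟩ := h (ψ i x) (by rw [hs i]; trivial)
    rw [← map_smul] at hpz
    obtain ⟨⟨_, k, rfl⟩, hk⟩ := IsLocalizedModule.exists_of_eq (S := Submonoid.powers (f i)) hpz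
    refine ⟨k + p, ?_⟩
    rw [pow_add, mul_smul]
    change (f i ^ k) • (f i ^ p • x) = (f i ^ k) • z at hk
    rw [hk]
    exact Submodule.smul_mem _ _ hz
  choose p hp using key
  refine ⟨∑ i, p i, fun i => ?_⟩
  obtain ⟨d, hd⟩ := Nat.le.dest (Finset.single_le_sum (fun j _ => Nat.zero_le (p j)) (Finset.mem_univ i))
  rw [← hd, pow_add, mul_comm, mul_smul]
  exact Submodule.smul_mem _ _ (hp i)

theorem exists_ext (hgr : ∀ N : ℕ, ∃ a b, a ∈ Ideal.span (Set.range fun i => f i ^ N) ∧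
      b ∈ Ideal.span (Set.range fun i => f i ^ N) ∧ IsWeaklyRegular R [a, b])
    (M₀ : Submodule R M) (hM₀ : ∀ x : M, ∃ N : ℕ, ∀ i, f i ^ N • x ∈ M₀) (φ : M₀ →ₗ[R] R) :
    ∃ Φ : M →ₗ[R] R, ∀ x : M₀, Φ x = φ x := by
  have huniq : ∀ (N : ℕ) (r : R), (∀ i, f i ^ N * r = 0) → r = 0 := fun N r hr => by
    obtain ⟨a, b, ha, -, hab⟩ := hgr N
    exact eq_zero_of_mul ha (fun x hx => (reg_pair hab).1 x hx) r hr
  have hex : ∀ x : M, ∃ r : R, ∀ (N : ℕ) (i : κ) (h : f i ^ N • x ∈ M₀), f i ^ N * r = φ ⟨_, h⟩ := by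
    intro x
    obtain ⟨N, hN⟩ := hM₀ x
    obtain ⟨a, b, ha, hb, hab⟩ := hgr N
    obtain ⟨r, hr⟩ := glue_ring ha hb hab (fun i => φ ⟨_, hN i⟩) fun i j => by
      rw [← smul_eq_mul, ← smul_eq_mul, ← map_smul, ← map_smul]
      exact congrArg φ (Subtype.ext (smul_comm _ _ _))
    refine ⟨r, fun N' i h => sub_eq_zero.1 (huniq N _ fun j => ?_)⟩
    rw [mul_sub, mul_left_comm, hr j, sub_eq_zero, ← smul_eq_mul, ← smul_eq_mul, ← map_smul, ← map_smul]
    exact congrArg φ (Subtype.ext (smul_comm _ _ _))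
  choose r hr using hex
  have key : ∀ (x : M) (t : R), (∀ (N : ℕ) (i : κ) (h : f i ^ N • x ∈ M₀), f i ^ N * t = φ ⟨_, h⟩) → r x = t := by
    intro x t ht
    obtain ⟨N, hN⟩ := hM₀ x
    exact sub_eq_zero.1 (huniq N _ fun i => by rw [mul_sub, hr x N i (hN i), ht N i (hN i), sub_self])
  refine ⟨{ toFun := r, map_add' := fun x y => ?_, map_smul' := fun c x => ?_ }, fun x => ?_⟩
  · obtain ⟨Nx, hx⟩ := hM₀ x
    obtain ⟨Ny, hy⟩ := hM₀ y
    refine sub_eq_zero.1 (huniq (Nx + Ny) _ fun i => ?_)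
    have hx' : f i ^ (Nx + Ny) • x ∈ M₀ := by
      rw [pow_add, mul_comm, mul_smul]; exact M₀.smul_mem _ (hx i)
    have hy' : f i ^ (Nx + Ny) • y ∈ M₀ := by
      rw [pow_add, mul_smul]; exact M₀.smul_mem _ (hy i)
    have hxy : f i ^ (Nx + Ny) • (x + y) ∈ M₀ := by rw [smul_add]; exact M₀.add_mem hx' hy'
    rw [mul_sub, mul_add, hr _ _ _ hx', hr _ _ _ hy', hr _ _ _ hxy, sub_eq_zero, ← map_add]
    exact congrArg φ (Subtype.ext (smul_add _ _ _))
  · obtain ⟨Nx, hx⟩ := hM₀ x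
    refine sub_eq_zero.1 (huniq Nx _ fun i => ?_)
    have hcx : f i ^ Nx • (c • x) ∈ M₀ := by rw [smul_comm]; exact M₀.smul_mem _ (hx i)
    rw [RingHom.id_apply, smul_eq_mul, mul_sub, mul_left_comm, hr _ _ _ hcx, hr _ _ _ (hx i), sub_eq_zero,
      ← smul_eq_mul, ← map_smul]
    exact congrArg φ (Subtype.ext (smul_comm _ _ _))
  · refine key x (φ x) fun N i h => ?_
    rw [← smul_eq_mul, ← map_smul]
    exact congrArg φ (Subtype.ext rfl)

include Rᵢ ψ in
theorem module_finite (hsep : ∀ x : M, (∀ i, ψ i x = 0) → x = 0)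
    (hgr : ∀ N : ℕ, ∃ a b, a ∈ Ideal.span (Set.range fun i => f i ^ N) ∧
      b ∈ Ideal.span (Set.range fun i => f i ^ N) ∧ IsWeaklyRegular R [a, b]) :
    Module.Finite R M := by
  classical
  obtain ⟨M₀, hfg, hM₀⟩ := exists_fg_saturated f ψ Rᵢ
  haveI : Module.Finite R M₀ := Module.Finite.iff_fg.2 hfg
  haveI : Module.FinitePresentation R M₀ := Module.finitePresentation_of_finite R M₀
  obtain ⟨k, φ, hφ⟩ := Module.Finite.exists_fin (R := R) (M := M₀ →ₗ[R] R)
  choose Φ hΦ using fun l => exists_ext f hgr M₀ hM₀ (φ l)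
  refine Module.Finite.of_injective (LinearMap.pi Φ) ((injective_iff_map_eq_zero _).2 fun x hx => hsep x fun i => ?_)
  obtain ⟨N, hN⟩ := hM₀ x
  have h0 : ∀ θ : M₀ →ₗ[R] R, θ ⟨_, hN i⟩ = 0 := by
    intro θ
    have hθ : θ ∈ Submodule.span R (Set.range φ) := by rw [hφ]; trivial
    obtain ⟨c, rfl⟩ := (Submodule.mem_span_range_iff_exists_fun R).1 hθ
    rw [LinearMap.sum_apply]
    refine Finset.sum_eq_zero fun l _ => ?_
    rw [LinearMap.smul_apply, ← hΦ l, map_smul, show Φ l x = 0 from congrFun hx l, smul_zero, smul_zero]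
  obtain ⟨s, hs⟩ := Module.projective_def.1 (inferInstance : Module.Projective (Rᵢ i) (A i))
  have hy : ψ i (f i ^ N • x) = 0 := by
    rw [← hs (ψ i (f i ^ N • x))]
    suffices s (ψ i (f i ^ N • x)) = 0 by rw [this, map_zero]
    refine Finsupp.ext fun a => ?_
    let θ : M₀ →ₗ[R] Rᵢ i :=
      (((Finsupp.lapply a).comp s).restrictScalars R).comp ((ψ i).comp M₀.subtype)
    obtain ⟨θ₀, ⟨c, hc⟩, hθ₀⟩ := Module.FinitePresentation.exists_lift_of_isLocalizedModule
      (Submonoid.powers (f i)) (Algebra.linearMap R (Rᵢ i)) θ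
    have h1 := LinearMap.congr_fun hθ₀ ⟨_, hN i⟩
    rw [LinearMap.comp_apply, h0, map_zero, LinearMap.smul_apply, Submonoid.smul_def] at h1
    have hu : IsUnit (algebraMap R (Rᵢ i) c) := IsLocalization.map_units (Rᵢ i) (⟨c, hc⟩ : Submonoid.powers (f i))
    rw [Algebra.smul_def] at h1
    exact hu.mul_right_eq_zero.1 h1.symm
  rw [map_smul] at hy
  have hu : Function.Injective fun y : A i => (f i ^ N) • y := by
    have := IsLocalizedModule.map_units (S := Submonoid.powers (f i)) (ψ i) ⟨f i ^ N, N, rfl⟩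
    exact ((Module.End.isUnit_iff _).1 this).1
  exact hu (hy.trans (smul_zero _).symm)

end S2ExtLib
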